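import Groth.Prelude.Def_W4c2gerbepatchBitors
import Mathlib.CategoryTheory.Sites.CoversTop.Basic

/-!
# Right structures of bitorsors and isomorphism families
-/

universe w v u

open CategoryTheory Opposite

namespace Groth.Agent.BitorsLib

variable {C : Type u} [Category.{v} C] {J : GrothendieckTopology C} {G H : Sheaf J GrpCat.{w}}
  {P : NonAbH1.GSheaf G}

lemma smul_cancel (hP : P.IsPseudoTorsor) {U : Cᵒᵖ} {g g' : G.obj.obj U} {p : P.P.obj.obj U}
    (h : P.smul g p = P.smul g' p) : g = g' :=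
  (hP U p (P.smul g' p)).unique h rfl

lemma isomFamily_ext {φ ψ : Bitors.IsomFamily P H}
    (h : ∀ (U : Cᵒᵖ) (p : P.P.obj.obj U) (x : H.obj.obj U), φ.φ p x = ψ.φ p x) : φ = ψ := by
  cases φ
  cases ψ
  simp only [Bitors.IsomFamily.mk.injEq]
  exact funext fun U => funext fun p => MulEquiv.ext (h U p)

lemma rightStr_ext {ρ σ : Bitors.RightStr P H}
    (h : ∀ (U : Cᵒᵖ) (p : P.P.obj.obj U) (x : H.obj.obj U), ρ.rsmul p x = σ.rsmul p x) : ρ = σ := by
  cases ρ
  cases σ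
  simp only [Bitors.RightStr.mk.injEq]
  exact funext fun U => funext fun p => funext fun x => h U p x

theorem correspondence (hP : P.IsPseudoTorsor) :
    (∀ ρ : Bitors.RightStr P H, ∃! φ : Bitors.IsomFamily P H,
        ∀ (U : Cᵒᵖ) (p : P.P.obj.obj U) (h : H.obj.obj U), ρ.rsmul p h = P.smul (φ.φ p h) p) ∧
    (∀ φ : Bitors.IsomFamily P H, ∃! ρ : Bitors.RightStr P H,
        ∀ (U : Cᵒᵖ) (p : P.P.obj.obj U) (h : H.obj.obj U), ρ.rsmul p h = P.smul (φ.φ p h) p) := by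
  constructor
  · intro ρ
    let F : ∀ (U : Cᵒᵖ) (p : P.P.obj.obj U), H.obj.obj U → G.obj.obj U := fun U p x =>
      (hP U p (ρ.rsmul p x)).choose
    have hF : ∀ (U : Cᵒᵖ) (p : P.P.obj.obj U) x, P.smul (F U p x) p = ρ.rsmul p x := fun U p x =>
      (hP U p (ρ.rsmul p x)).choose_spec.1
    have hmul : ∀ (U : Cᵒᵖ) (p : P.P.obj.obj U) x y, F U p (x * y) = F U p x * F U p y := by
      intro U p x y
      apply smul_cancel hP (p := p)
      rw [hF, P.mul_smul, hF, ρ.rsmul_mul, ← hF U p x, ρ.smul_rsmul]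
    have hbij : ∀ (U : Cᵒᵖ) (p : P.P.obj.obj U), Function.Bijective (F U p) := by
      intro U p
      refine ⟨fun x y e => (ρ.existsUnique_rsmul p (ρ.rsmul p y)).unique ?_ rfl, fun g => ?_⟩
      · rw [← hF, e, hF]
      · obtain ⟨x, hx, -⟩ := ρ.existsUnique_rsmul p (P.smul g p)
        exact ⟨x, smul_cancel hP ((hF U p x).trans hx)⟩
    let φ : Bitors.IsomFamily P H :=
      { φ := fun {U} p => MulEquiv.ofBijective (MulHom.mk (F U p) (hmul U p)) (hbij U p)
        map_φ := fun {U V} f p x => by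
          show G.obj.map f (F U p x) = F V _ _
          apply smul_cancel hP (p := P.P.obj.map f p)
          rw [hF, ← P.map_smul, hF, ρ.map_rsmul]
        φ_smul := fun {U} g p x => by
          show F U _ x = g * F U p x * g⁻¹
          apply smul_cancel hP (p := P.smul g p)
          rw [hF, ρ.smul_rsmul, ← hF, ← P.mul_smul, ← P.mul_smul, inv_mul_cancel_right] }
    refine ⟨φ, fun U p x => (hF U p x).symm, fun ψ hψ => isomFamily_ext fun U p x => ?_⟩
    exact smul_cancel hP ((hψ U p x).symm.trans (hF U p x).symm)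
  · intro φ
    let ρ : Bitors.RightStr P H :=
      { rsmul := fun {U} p x => P.smul (φ.φ p x) p
        rsmul_one := fun p => by rw [map_one, P.one_smul]
        rsmul_mul := fun p x y => by
          rw [φ.φ_smul, ← P.mul_smul, map_mul, inv_mul_cancel_right]
        map_rsmul := fun f p x => by rw [P.map_smul, φ.map_φ]
        smul_rsmul := fun g p x => by
          rw [φ.φ_smul, ← P.mul_smul, ← P.mul_smul, inv_mul_cancel_right]
        existsUnique_rsmul := fun {U} p q => by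
          obtain ⟨g, hg, -⟩ := hP U p q
          refine ⟨(φ.φ p).symm g, ?_, fun y hy => ?_⟩
          · show P.smul (φ.φ p ((φ.φ p).symm g)) p = q
            rw [MulEquiv.apply_symm_apply, hg]
          · rw [MulEquiv.eq_symm_apply]
            exact smul_cancel hP (hy.trans hg.symm) }
    exact ⟨ρ, fun U p x => rfl, fun σ hσ => rightStr_ext fun U p x => hσ U p x⟩

variable {P' : NonAbH1.GSheaf G}

theorem hom_rsmul_iff (hP' : P'.IsPseudoTorsor)
    (ρ : Bitors.RightStr P H) (ρ' : Bitors.RightStr P' H)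
    (φ : Bitors.IsomFamily P H) (φ' : Bitors.IsomFamily P' H)
    (hρ : ∀ (U : Cᵒᵖ) (p : P.P.obj.obj U) (h : H.obj.obj U), ρ.rsmul p h = P.smul (φ.φ p h) p)
    (hρ' : ∀ (U : Cᵒᵖ) (p : P'.P.obj.obj U) (h : H.obj.obj U), ρ'.rsmul p h = P'.smul (φ'.φ p h) p)
    (f : P ⟶ P') (U : Cᵒᵖ) (p : P.P.obj.obj U) (h : H.obj.obj U) :
    f.hom.hom.app U (ρ.rsmul p h) = ρ'.rsmul (f.hom.hom.app U p) h ↔
        φ.φ p h = φ'.φ (f.hom.hom.app U p) h := by
  rw [hρ, hρ', f.map_smul]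
  exact ⟨fun e => smul_cancel hP' e, fun e => by rw [e]⟩

theorem hom_rsmul_iff_conj (hP : P.IsPseudoTorsor) (hP' : P'.IsPseudoTorsor)
    (ρ : Bitors.RightStr P H) (ρ' : Bitors.RightStr P' H)
    (φ : Bitors.IsomFamily P H) (φ' : Bitors.IsomFamily P' H)
    (hρ : ∀ (U : Cᵒᵖ) (q : P.P.obj.obj U) (h : H.obj.obj U), ρ.rsmul q h = P.smul (φ.φ q h) q)
    (hρ' : ∀ (U : Cᵒᵖ) (q : P'.P.obj.obj U) (h : H.obj.obj U), ρ'.rsmul q h = P'.smul (φ'.φ q h) q)
    (Y : C) (hY : J.CoversTop (fun _ : PUnit.{w + 1} => Y))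
    (p : P.P.obj.obj (op Y)) (p' : P'.P.obj.obj (op Y)) (f : P ⟶ P') (g : G.obj.obj (op Y))
    (hg : f.hom.hom.app (op Y) p = P'.smul g p') :
    (∀ (U : Cᵒᵖ) (q : P.P.obj.obj U) (h : H.obj.obj U),
        f.hom.hom.app U (ρ.rsmul q h) = ρ'.rsmul (f.hom.hom.app U q) h) ↔
      ∀ (V : C) (t : V ⟶ Y) (h : H.obj.obj (op V)),
        φ.φ (P.P.obj.map t.op p) h =
          G.obj.map t.op g * φ'.φ (P'.P.obj.map t.op p') h * (G.obj.map t.op g)⁻¹ := by
  have hpt : ∀ (V : C) (t : V ⟶ Y), f.hom.hom.app (op V) (P.P.obj.map t.op p) =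
      P'.smul (G.obj.map t.op g) (P'.P.obj.map t.op p') := fun V t => by
    rw [NatTrans.naturality_apply, hg, P'.map_smul]
  constructor
  · intro e V t h
    rw [(hom_rsmul_iff hP' ρ ρ' φ φ' hρ hρ' f _ _ _).1 (e _ _ h), hpt, φ'.φ_smul]
  · intro e U q h
    obtain ⟨U⟩ := U
    have hs : Presieve.IsSheaf J P'.P.obj := (isSheaf_iff_isSheaf_of_type J _).1 P'.P.property
    refine (hs _ (hY U)).isSeparatedFor.ext fun V k hk => ?_
    obtain ⟨i, hi⟩ := (Sieve.mem_ofObjects_iff _ k).1 hk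
    obtain ⟨t⟩ := hi
    obtain ⟨a, ha, -⟩ := hP (op V) (P.P.obj.map t.op p) (P.P.obj.map k.op q)
    show P'.P.obj.map k.op _ = P'.P.obj.map k.op _
    rw [← NatTrans.naturality_apply f.hom.hom, ρ.map_rsmul, ρ'.map_rsmul,
      ← NatTrans.naturality_apply f.hom.hom, hom_rsmul_iff hP' ρ ρ' φ φ' hρ hρ', ← ha, φ.φ_smul,
      f.map_smul, hpt, φ'.φ_smul, φ'.φ_smul, e]

end Groth.Agent.BitorsLib
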